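import Groth.Agent.KSModLib.Coherent
import Groth.Agent.KSModLib.Coord
import Groth.Agent.AVThetaLib.Scalar
import Groth.Agent.QCohLib.AffineFinite
import Groth.Agent.DefClassLib.Basic
import Groth.Agent.InjModLib.ExtCrit

/-! Base change of homomorphisms along an extension of the base field. -/

set_option autoImplicit false
set_option linter.style.haveILetI false
set_option linter.unusedSectionVars false
universe u

noncomputable section

open CategoryTheory CategoryTheory.Limits AlgebraicGeometry TopologicalSpace Opposite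
open GLinBCLib KFlatLib

namespace SBTw

variable {k K : Type u} [Field k] [Field K] [Algebra k K] {X Y : Scheme.{u}} (β : BC k K X Y)
  [X.Over (Spec (CommRingCat.of k))] [Y.Over (Spec (CommRingCat.of K))]
  (hX : X ↘ Spec (CommRingCat.of k) = β.iX) (hY : Y ↘ Spec (CommRingCat.of K) = β.iY)

include hX in
theorem smulX_app {F G : X.Modules} (a : k) (f : F ⟶ G) (U : X.Opens) (m : Γ(F, U)) :
    (a • f).app U m = β.cX U a • f.app U m := by
  rw [KLin.smul_app_apply]
  congr 1
  show X.presheaf.map (homOfLE (le_top : U ≤ ⊤)).op ((X ↘ Spec (CommRingCat.of k)).appTop _) = _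
  rw [hX]
  simp [BC.cX, Scheme.Hom.appLE]

include hY in
theorem smulY_app {F G : Y.Modules} (a : K) (f : F ⟶ G) (U : Y.Opens) (m : Γ(F, U)) :
    (a • f).app U m = β.cY U a • f.app U m := by
  rw [KLin.smul_app_apply]
  congr 1
  show Y.presheaf.map (homOfLE (le_top : U ≤ ⊤)).op ((Y ↘ Spec (CommRingCat.of K)).appTop _) = _
  rw [hY]
  simp [BC.cY, Scheme.Hom.appLE]

theorem app_cX (a : k) (U : X.Opens) : β.g.app U (β.cX U a) = β.cY (β.g ⁻¹ᵁ U) (algebraMap k K a) := by
  have h : β.iX.appLE ⊤ U le_top ≫ β.g.app U =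
      (Spec.map (CommRingCat.ofHom (algebraMap k K))).appTop ≫ β.iY.appLE ⊤ (β.g ⁻¹ᵁ U) le_top := by
    rw [Scheme.Hom.app_eq_appLE, Scheme.Hom.appTop, Scheme.Hom.app_eq_appLE]
    refine (Scheme.Hom.appLE_comp_appLE _ _ _ _ _ _ _).trans (((show ∀ {f g : Y ⟶ Spec (CommRingCat.of k)} (h : f = g) (e : β.g ⁻¹ᵁ U ≤ f ⁻¹ᵁ ⊤) (e' : β.g ⁻¹ᵁ U ≤ g ⁻¹ᵁ ⊤), f.appLE ⊤ _ e = g.appLE ⊤ _ e' from fun h _ _ => by subst h; rfl) β.sq.w _ le_top).trans ?_)
    exact (Scheme.Hom.appLE_comp_appLE _ _ _ _ _ _ _).symm
  have h2 : (Scheme.ΓSpecIso (CommRingCat.of k)).inv ≫ β.iX.appLE ⊤ U le_top ≫ β.g.app U =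
      CommRingCat.ofHom (algebraMap k K) ≫ (Scheme.ΓSpecIso (CommRingCat.of K)).inv ≫
        β.iY.appLE ⊤ (β.g ⁻¹ᵁ U) le_top := by
    rw [h, Scheme.ΓSpecIso_inv_naturality_assoc]
  exact congr($h2 a)

/-- Maps out of a pullback are determined by the pulled back sections over affine opens. -/
theorem hom_ext_puSec_affine {F : X.Modules} {G : Y.Modules} {φ ψ : pb β.g F ⟶ G}
    (h : ∀ (U : X.Opens), IsAffineOpen U → ∀ m : Γ(F, U),
      φ.app (β.g ⁻¹ᵁ U) (puSec β.g m) = ψ.app (β.g ⁻¹ᵁ U) (puSec β.g m)) : φ = ψ := by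
  apply ((Scheme.Modules.pullbackPushforwardAdjunction β.g).homEquiv _ _).injective
  rw [Adjunction.homEquiv_unit, Adjunction.homEquiv_unit]
  exact DefClassLib.hom_ext_affines fun U m => h U.1 U.2 m

include hX hY in
/-- Pullback is semilinear for the constants. -/
theorem map_smul' {F G : X.Modules} (a : k) (f : F ⟶ G) :
    (Scheme.Modules.pullback β.g).map (a • f) = algebraMap k K a • (Scheme.Modules.pullback β.g).map f := by
  refine CohCmpLib.hom_ext_puSec _ _ fun U m => ?_
  rw [puSec_natural, smulX_app β hX, smulY_app β hY, puSec_natural, puSec_smul, app_cX]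

include hX hY in
/-- Homomorphisms of coherent modules commute with extension of the base field. -/
theorem exists_basis [IsProper (X ↘ Spec (CommRingCat.of k))] {F G : X.Modules} (hF : Coh.IsCoh F) (hG : Coh.IsCoh G)
    {κ : Type*} [Fintype κ] (b : Module.Basis κ k (F ⟶ G)) :
    ∃ b' : Module.Basis κ K (pb β.g F ⟶ pb β.g G), ∀ j, b' j = (Scheme.Modules.pullback β.g).map (b j) := by
  classical
  haveI := CurvLib.isNoetherian k (X := X)
  haveI := hF.1
  haveI := hG.1
  let P := Scheme.Modules.pullback β.g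
  let e := Module.Free.chooseBasis k K
  let c := e.repr
  have hsum : ∀ (s : Finset (Module.Free.ChooseBasisIndex k K)) (h : Module.Free.ChooseBasisIndex k K → (F ⟶ G))
      (U : X.Opens) (m : Γ(F, U)),
      (∑ i ∈ s, e i • P.map (h i)).app (β.g ⁻¹ᵁ U) (puSec β.g m) =
        ∑ i ∈ s, β.cY (β.g ⁻¹ᵁ U) (e i) • puSec β.g ((h i).app U m) := by
    intro s h U m
    induction s using Finset.induction_on with
    | empty => rfl
    | insert i s hi ih =>
      rw [Finset.sum_insert hi, Finset.sum_insert hi, ← ih]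
      show (e i • P.map (h i)).app _ _ + _ = _
      rw [smulY_app β hY, puSec_natural]
      rfl
  have hli : LinearIndependent K fun j => P.map (b j) := by
    refine Fintype.linearIndependent_iff.2 fun a ha => ?_
    let s : Finset (Module.Free.ChooseBasisIndex k K) := Finset.univ.biUnion fun j => (c (a j)).support
    let h := fun i => ∑ j, c (a j) i • b j
    have hz : ∑ i ∈ s, e i • P.map (h i) = 0 := by
      rw [← ha]
      simp only [h, P, Functor.map_sum, map_smul' β hX hY, Finset.smul_sum, smul_smul]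
      rw [Finset.sum_comm]
      refine Finset.sum_congr rfl fun j _ => ?_
      rw [← Finset.sum_smul]
      congr 1
      conv_rhs => rw [← e.linearCombination_repr (a j)]
      have hsub : (e.repr (a j)).support ⊆ s :=
        Finset.subset_biUnion_of_mem (fun j => (c (a j)).support) (Finset.mem_univ j)
      rw [Finsupp.linearCombination_apply, show (c (a j)) = e.repr (a j) from rfl,
        Finsupp.sum_of_support_subset (e.repr (a j)) hsub (fun i x => x • e i) (fun i _ => zero_smul k (e i))]
      exact Finset.sum_congr rfl fun i _ => by rw [Algebra.smul_def, mul_comm]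
    have h0 : ∀ i, h i = 0 := fun i => by
      by_cases hi : i ∈ s
      · refine DefClassLib.hom_ext_affines fun U m => ?_
        let z : Module.Free.ChooseBasisIndex k K →₀ Γ(G, U.1) :=
          Finsupp.onFinset s (fun i => if i ∈ s then (h i).app U.1 m else 0) fun i hi => by
            by_contra hc; exact hi (if_neg hc)
        have h1 : KSMod.combM β e G U.1 z = 0 := by
          unfold KSMod.combM
          rw [Finsupp.sum_of_support_subset _ Finsupp.support_onFinset_subset _
            (fun i _ => by rw [KSMod.puSec_zero, smul_zero])]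
          refine Eq.trans ?_ (Eq.trans (hsum s h U.1 m).symm (by rw [hz]; rfl))
          exact Finset.sum_congr rfl fun i hi => by simp [z, hi]
        have h2 := (KSMod.combM_bijective β e G U.2).1 (h1.trans (by simp [KSMod.combM] : (0 : _) = KSMod.combM β e G U.1 0))
        have h3 := congrArg (· i) h2
        simpa [z, hi] using h3
      · refine Finset.sum_eq_zero fun j _ => ?_
        have : c (a j) i = 0 := Finsupp.notMem_support_iff.1 fun h' => hi (Finset.mem_biUnion.2 ⟨j, Finset.mem_univ _, h'⟩)
        rw [this, zero_smul]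
    intro j
    refine c.injective (Finsupp.ext fun i => ?_)
    rw [Fintype.linearIndependent_iff.1 b.linearIndependent (fun j => c (a j) i) (h0 i) j, map_zero, Finsupp.zero_apply]
  refine ⟨Module.Basis.mk hli fun φ _ => ?_, fun j => Module.Basis.mk_apply _ _ j⟩
  obtain ⟨h, hh⟩ := KSMod.exists_coord β e φ
  choose V hV hyV using fun x : X => (exists_isAffineOpen_mem_and_subset (show x ∈ (⊤ : X.Opens) from trivial))
  obtain ⟨T, hT⟩ := isCompact_univ.elim_finite_subcover (fun x : X => (V x : Set X)) (fun x => (V x).2)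
    fun x _ => Set.mem_iUnion.2 ⟨x, (hyV x).1⟩
  choose gs hgs using fun x : X => (QCohLib.finite_of_isFT hF.2 (hV x)).fg_top
  choose bb hbb hφ using fun (x : X) (m : Γ(F, V x)) => hh (V x) (hV x) m
  let s := T.biUnion fun x => (gs x).biUnion fun m => (bb x m).support
  have hfin : ∀ i, i ∉ s → h i = 0 := by
    intro i hi
    refine InjModLib.hom_ext_stalks _ _ fun q z => ?_
    obtain ⟨x, hxT, hqx⟩ := Set.mem_iUnion₂.1 (hT (Set.mem_univ q))
    show _ = ((DerSch.stalkFunctor X q).map (0 : F ⟶ G)).hom z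
    rw [Functor.map_zero]
    have hzero : ∀ m : Γ(F, V x), (h i).app (V x) m = 0 := fun m => by
      have hm : m ∈ Submodule.span Γ(X, V x) (gs x : Set Γ(F, V x)) := by rw [hgs x]; trivial
      induction hm using Submodule.span_induction with
      | mem m hm =>
        rw [← hbb x m i]
        exact Finsupp.notMem_support_iff.1 fun h' =>
          hi (Finset.mem_biUnion.2 ⟨x, hxT, Finset.mem_biUnion.2 ⟨m, hm, h'⟩⟩)
      | zero => exact map_zero _
      | add a b _ _ ha hb => rw [map_add, ha, hb, add_zero]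
      | smul r a _ ha => rw [Scheme.Modules.Hom.app_smul, ha, smul_zero]
    obtain ⟨W, hqW, w, rfl⟩ := ProjFormLib.exists_ger F q z
    obtain ⟨W', hW', hWU, hqW', c', hc⟩ := QCohLib.genOn_of_span (M := F) (hV x) (fun j : {m // m ∈ gs x} => (j : Γ(F, V x)))
      (by rw [Subtype.range_coe_subtype, Finset.setOf_mem]; exact hgs x) (W ⊓ V x) inf_le_right
      (AmpleLib.res F inf_le_left w) q ⟨hqW, hqx⟩
    rw [← ProjFormLib.ger_res F (hW'.trans inf_le_left) q hqW' w]
    refine (ProjFormLib.ger_map (h i) q (U := W') hqW' _).trans ?_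
    refine (congrArg (ProjFormLib.ger G q (U := W') hqW') ?_).trans (map_zero (G.presheaf.germ W' q hqW').hom)
    rw [show ProjFormLib.res F (hW'.trans inf_le_left) w = _ from (QCohLib.map_map' F _ _ w).symm.trans hc, map_sum]
    refine Finset.sum_eq_zero fun j _ => ?_
    rw [Scheme.Modules.Hom.app_smul]
    refine (congrArg (c' j • ·) ((QCohLib.app_map (h i) _ _).trans (by rw [hzero]; exact map_zero _))).trans (smul_zero _)
  have hφ' : φ = ∑ i ∈ s, e i • P.map (h i) := hom_ext_puSec_affine β fun U hU m => by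
    obtain ⟨z, hz, hz'⟩ := hh U hU m
    rw [hz', hsum]
    unfold KSMod.combM
    rw [Finsupp.sum_of_support_subset _ (fun i hi => ?_) _ (fun i _ => by rw [KSMod.puSec_zero, smul_zero])]
    · exact Finset.sum_congr rfl fun i _ => by rw [hz i]
    · by_contra hc
      exact Finsupp.mem_support_iff.1 hi ((hz i).trans (by rw [hfin i hc]; rfl))
  rw [hφ']
  refine Submodule.sum_mem _ fun i _ => Submodule.smul_mem _ _ ?_
  rw [← b.sum_repr (h i), Functor.map_sum]
  refine Submodule.sum_mem _ fun j _ => ?_
  rw [map_smul' β hX hY]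
  exact Submodule.smul_mem _ _ (Submodule.subset_span ⟨j, rfl⟩)

end SBTw
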