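import Groth.Agent.SBTwLib.Tensor
import Groth.Agent.KSModLib.SepDescend
import Groth.Agent.CSALib.Period
import Groth.Agent.S2297

/-! Multiplicities of twisted isotypical modules are indices of Brauer classes. -/

set_option autoImplicit false
set_option linter.style.haveILetI false
set_option linter.unusedSectionVars false
universe u

noncomputable section

open CategoryTheory CategoryTheory.Limits AlgebraicGeometry
open scoped TensorProduct
open W4c1astiltbs12 (pow)
open KFlatLib (pb)

namespace SBTw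

attribute [local instance] Abelian.hasFiniteBiproducts

theorem ind_inv {k : Type u} [Field k] (z : CSALib.Br k) : CSALib.ind z⁻¹ = CSALib.ind z := by
  have key : ∀ w : CSALib.Br k, CSALib.ind w⁻¹ ∣ CSALib.ind w := fun w => by
    have h : w⁻¹ = w ^ (orderOf w - 1) :=
      inv_eq_of_mul_eq_one_right (by rw [← pow_succ', Nat.sub_add_cancel (CSALib.orderOf_pos' w), pow_orderOf_eq_one])
    rw [h]
    exact CSALib.ind_pow_dvd w _
  refine Nat.dvd_antisymm (key z) ?_
  simpa using key z⁻¹

open scoped Classical in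
/-- The Brauer class of an endomorphism algebra, when it is central simple. -/
def cls (k : Type u) [Field k] {X : Scheme.{u}} [X.Over (Spec (CommRingCat.of k))] (W : X.Modules) : CSALib.Br k :=
  if h : Algebra.IsCentral k (End W) ∧ IsSimpleRing (End W) ∧ FiniteDimensional k (End W) then
    haveI := h.1; haveI := h.2.1; haveI := h.2.2; CSALib.cl k (End W)
  else 1

theorem cls_eq {k : Type u} [Field k] {X : Scheme.{u}} [X.Over (Spec (CommRingCat.of k))] (W : X.Modules)
    [h1 : Algebra.IsCentral k (End W)] [h2 : IsSimpleRing (End W)] [h3 : FiniteDimensional k (End W)] :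
    cls k W = CSALib.cl k (End W) := dif_pos ⟨h1, h2, h3⟩

variable {k : Type u} [Field k] {X : Scheme.{u}} {f : X ⟶ Spec (CommRingCat.of k)} [IsProper f] {n : ℕ}
  {K : Type u} [Field K] [Algebra k K] [IsAlgClosed K] (e : BrSev.Splitting f K n)
  [X.Over (Spec (CommRingCat.of k))] (hX : X ↘ Spec (CommRingCat.of k) = f)

include e in
theorem isIntegral_bc : IsIntegral (BrSev.bc f K) := by
  haveI : IsIntegral (CohB1.ProjSpace n K) := PicPnLib.isIntegral_projSpace n K
  haveI : Nonempty (BrSev.bc f K) := ⟨e.iso.inv (Classical.arbitrary _)⟩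
  exact isIntegral_of_isOpenImmersion e.iso.hom

include hX in
/-- The endomorphisms of a twisted isotypical bundle form a central simple algebra. -/
theorem end_twPow {j : ℤ} {r : ℕ} {W : X.Modules} (hW : Coh.IsCoh W) (hr : 0 < r)
    (hWt : BrSev.IsTwPow e j r W) :
    Algebra.IsCentral k (End W) ∧ IsSimpleRing (End W) ∧ Module.finrank k (End W) = r * r ∧
      FiniteDimensional k (End W) := by
  haveI : IsProper (X ↘ Spec (CommRingCat.of k)) := hX ▸ ‹IsProper f›
  letI : (BrSev.bc f K).Over (Spec (CommRingCat.of K)) := ⟨BrSev.bcTo f K⟩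
  haveI : IsProper (BrSev.bc f K ↘ Spec (CommRingCat.of K)) :=
    inferInstanceAs (IsProper (pullback.snd f (Spec.map (CommRingCat.ofHom (algebraMap k K)))))
  haveI := isIntegral_bc e
  obtain ⟨h1, h2, h3⟩ := end_csa (KSMod.bcSq f K) hX rfl hW
    (bijective_smul_id (KSMod.isInvertible_twist e j)) hr hWt.some
  exact ⟨h1, h2, h3, KSMod.finite_hom hW hW⟩

include hX in
/-- The class of a twisted isotypical bundle of type zero is trivial. -/
theorem cl_twPow_zero {r : ℕ} {W : X.Modules} (hW : Coh.IsCoh W) (hr : 0 < r) (hWt : BrSev.IsTwPow e 0 r W) :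
    cls k W = 1 := by
  haveI : IsProper (X ↘ Spec (CommRingCat.of k)) := hX ▸ ‹IsProper f›
  haveI := CurvLib.isNoetherian k (X := X)
  obtain ⟨h1, h2, h3, h4⟩ := end_twPow e hX hW hr hWt
  let O := Coh.structureModule X
  have hO : Coh.IsCoh O := Groth.Agent.PerfLib.isCoh_of_isFinLocFree
    (AmpleDevLib.isFinLocFree_of_isInvertible CurvLib.isInvertible_structureModule)
  have hOt : BrSev.IsTwPow e 0 1 O := by
    haveI : Nonempty (Fin 1) := ⟨0⟩
    exact ⟨KFlatLib.pullUnitIso (BrSev.proj f K) ≪≫ (KFlatLib.pullUnitIso e.iso.hom).symm ≪≫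
      (Scheme.Modules.pullback e.iso.hom).mapIso (PicPnLib.twist_zero (n := n) (R := K)).some.symm ≪≫
      (coproductUniqueIso fun _ : Fin 1 => e.twist 0).symm⟩
  obtain ⟨g1, g2, g3, g4⟩ := end_twPow e hX hO one_pos hOt
  have hb : Function.Bijective fun a : k => a • 𝟙 O := by
    have hinj : Function.Injective (Algebra.linearMap k (End O)) := (algebraMap k (End O)).injective
    have hsurj : Function.Surjective (Algebra.linearMap k (End O)) :=
      (LinearMap.injective_iff_surjective_of_finrank_eq_finrank (f := Algebra.linearMap k (End O)) (by rw [g3]; simp)).1 hinj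
    refine (show (Algebra.linearMap k (End O) : k → End O) = fun a : k => a • 𝟙 O from
      funext fun a => Algebra.algebraMap_eq_smul_one a) ▸ ⟨hinj, hsurj⟩
  obtain ⟨Φ⟩ : Nonempty (W ≅ ⨁ fun _ : Fin r => O) := by
    let P := Scheme.Modules.pullback (BrSev.proj f K)
    have hc : Coh.IsCoh (∐ fun _ : Fin r => O) :=
      QCohLib.isCoh_of_iso (biproduct.isoCoproduct _) (CurveSDLib.isCoh_biproduct fun _ => hO)
    obtain ⟨a⟩ := KSMod.noetherDeuring' f K hW hc (hWt.some ≪≫
      (Sigma.mapIso fun _ : Fin r => hOt.some ≪≫ coproductUniqueIso fun _ : Fin 1 => e.twist 0).symm ≪≫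
      (PreservesCoproduct.iso P _).symm)
    exact ⟨a ≪≫ (biproduct.isoCoproduct _).symm⟩
  let θ := (Linear.homCongr k Φ Φ).trans (matLin hb r)
  let ψ : End W ≃ₐ[k] Matrix (Fin r) (Fin r) k := AlgEquiv.ofLinearEquiv θ
    (by show θ (𝟙 W) = 1; simp [θ, Linear.homCongr_apply, matLin_id])
    (fun a b => by
      show θ (b ≫ a) = θ a * θ b
      simp only [θ, LinearEquiv.trans_apply, Linear.homCongr_apply]
      rw [← matLin_comp]
      congr 1
      simp)
  rw [cls_eq, CSALib.one_def]
  exact CSALib.cl_matrix hr.ne' ψ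

include hX in
/-- The classes multiply under tensor products. -/
theorem cl_tensor {j l : ℤ} {r s : ℕ} {W W' : X.Modules} (hW : Coh.IsCoh W) (hW' : Coh.IsCoh W') (hr : 0 < r)
    (hs : 0 < s) (hWt : BrSev.IsTwPow e j r W) (hW't : BrSev.IsTwPow e l s W') :
    cls k (CohB1.tensorMod W W') = cls k W * cls k W' := by
  haveI := hW.1
  haveI := hW'.1
  have hT : Coh.IsCoh (CohB1.tensorMod W W') :=
    ⟨(Groth.Agent.S2297.result W W').1, (Groth.Agent.S2297.result W W').2 hW.2 hW'.2⟩
  obtain ⟨a1, a2, a3, a4⟩ := end_twPow e hX hW hr hWt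
  obtain ⟨b1, b2, b3, b4⟩ := end_twPow e hX hW' hs hW't
  obtain ⟨c1, c2, c3, c4⟩ := end_twPow e hX hT (Nat.mul_pos hr hs) (isTwPow_tensor hWt hW't)
  haveI : IsSimpleRing (End W ⊗[k] End W') := inferInstance
  rw [cls_eq, cls_eq, cls_eq, CSALib.cl_tensor]
  have hbij : Function.Bijective (endTens W W' (k := k)) := by
    have hinj : Function.Injective (endTens W W' (k := k)) := CSALib.injective_algHom _
    refine ⟨hinj, (LinearMap.injective_iff_surjective_of_finrank_eq_finrank
      (f := (endTens W W' (k := k)).toLinearMap) ?_).1 hinj⟩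
    rw [Module.finrank_tensorProduct, a3, b3, c3]
    ring
  exact (CSALib.cl_congr (AlgEquiv.ofBijective _ hbij)).symm

include hX in
/-- The class depends only on the type. -/
theorem cl_unique {j : ℤ} {r s t : ℕ} {W W' V : X.Modules} (hW : Coh.IsCoh W) (hW' : Coh.IsCoh W')
    (hV : Coh.IsCoh V) (hr : 0 < r) (hs : 0 < s) (ht : 0 < t) (hWt : BrSev.IsTwPow e j r W)
    (hW't : BrSev.IsTwPow e j s W') (hVt : BrSev.IsTwPow e (-j) t V) :
    cls k W = cls k W' := by
  haveI := hW.1
  haveI := hW'.1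
  haveI := hV.1
  have key : ∀ {U : X.Modules} {m : ℕ}, Coh.IsCoh U → 0 < m → BrSev.IsTwPow e j m U →
      cls k U * cls k V = 1 := fun {U m} hU hm hUt => by
    haveI := hU.1
    rw [← cl_tensor e hX hU hV hm ht hUt hVt]
    have h := isTwPow_tensor hUt hVt
    rw [add_neg_cancel] at h
    exact cl_twPow_zero e hX ⟨(Groth.Agent.S2297.result U V).1, (Groth.Agent.S2297.result U V).2 hU.2 hV.2⟩
      (Nat.mul_pos hm ht) h
  exact mul_right_cancel ((key hW hr hWt).trans (key hW' hs hW't).symm)

include hX in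
/-- The multiplicity of an indecomposable is the index of its class. -/
theorem ind_cl_indec {j : ℤ} {r : ℕ} {W : X.Modules} (hW : Coh.IsCoh W) (hWi : KSMod.Indec W) (hr : 0 < r)
    (hWt : BrSev.IsTwPow e j r W) : CSALib.ind (cls k W) = r := by
  haveI : IsProper (X ↘ Spec (CommRingCat.of k)) := hX ▸ ‹IsProper f›
  obtain ⟨h1, h2, h3, h4⟩ := end_twPow e hX hW hr hWt
  haveI : IsArtinianRing (End W) := IsArtinianRing.of_finite k _
  have hJ : Ring.jacobson (End W) = ⊥ := (Submodule.eq_bot_iff _).2 fun a ha => by_contra fun ha0 => by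
    rcases IsSimpleRing.simple.eq_bot_or_eq_top (Ideal.toTwoSided (Ring.jacobson (End W))) with h | h
    · refine ha0 ?_
      have h1 : a ∈ Ideal.toTwoSided (Ring.jacobson (End W)) := Ideal.mem_toTwoSided.2 ha
      rw [h] at h1
      exact h1
    · refine (Ring.jacobson_lt_top (End W)).ne ((Ideal.eq_top_iff_one _).2 (Ideal.mem_toTwoSided.1 ?_))
      rw [h]
      trivial
  classical
  letI : DivisionRing (End W) := DivisionRing.ofIsUnitOrEqZero fun a => by
    by_contra h
    obtain ⟨hu, ha⟩ := not_or.1 h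
    exact ha ((Submodule.eq_bot_iff _).1 hJ a (KSMod.nonunit_mem_jacobson (k := k) (KSMod.idem_end hWi) hu))
  rw [cls_eq]
  exact (CSALib.ind_cl_eq (CSALib.oneMat (End W)) (h3.trans (sq r).symm)).1

include hX in
/-- Opposite types have the same multiplicity. -/
theorem mult_neg {j : ℤ} {r r' : ℕ} {W W' : X.Modules} (hW : Coh.IsCoh W) (hW' : Coh.IsCoh W')
    (hWi : KSMod.Indec W) (hW'i : KSMod.Indec W') (hr : 0 < r) (hr' : 0 < r')
    (hWt : BrSev.IsTwPow e j r W) (hW't : BrSev.IsTwPow e (-j) r' W') : r = r' := by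
  haveI := hW.1
  haveI := hW'.1
  have h := isTwPow_tensor hWt hW't
  rw [add_neg_cancel] at h
  have h1 := cl_twPow_zero e hX ⟨(Groth.Agent.S2297.result W W').1, (Groth.Agent.S2297.result W W').2 hW.2 hW'.2⟩
    (Nat.mul_pos hr hr') h
  rw [cl_tensor e hX hW hW' hr hr' hWt hW't] at h1
  rw [← ind_cl_indec e hX hW hWi hr hWt, ← ind_cl_indec e hX hW' hW'i hr' hW't, eq_inv_of_mul_eq_one_left h1, ind_inv]

end SBTw
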