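import Groth.Agent.SBTwLib.EndAlg
import Groth.Agent.KSModLib.AbsSplit
import Groth.Agent.DerBCLib.LocQ
import Groth.Agent.PicPnLib.Rel
import Groth.Prelude.Def_KLin

/-! Tensor products of isotypical modules. -/

set_option autoImplicit false
set_option linter.style.haveILetI false
set_option linter.unusedSectionVars false
universe u

noncomputable section

open CategoryTheory CategoryTheory.Limits AlgebraicGeometry
open scoped TensorProduct
open W4c1astiltbs12 (pow)
open KFlatLib (pb)

namespace SBTw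

section sum

variable {Y : Scheme.{u}}

/-- The tensor product of powers is a power of the tensor product. -/
theorem nonempty_tensor_pow (L L' : Y.Modules) (r s : ℕ) :
    Nonempty (CohB1.tensorMod (pow L r) (pow L' s) ≅ pow (CohB1.tensorMod L L') (r * s)) := by
  let e1 : CohB1.tensorMod (pow L r) (pow L' s) ≅ ∐ fun _ : Fin r => CohB1.tensorMod L (pow L' s) :=
    PreservesCoproduct.iso ((DCoh.tensorBi (X := Y)).flip.obj (pow L' s)) fun _ : Fin r => L
  let e2 : CohB1.tensorMod L (pow L' s) ≅ pow (CohB1.tensorMod L L') s :=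
    PreservesCoproduct.iso ((DCoh.tensorBi (X := Y)).obj L) fun _ : Fin s => L'
  exact ⟨e1 ≪≫ (Sigma.mapIso fun _ => e2) ≪≫ (KSMod.nonempty_pow_pow _ s r).some⟩

/-- The tensor product of isomorphisms. -/
def tensIso {A A' B B' : Y.Modules} (a : A ≅ A') (b : B ≅ B') : CohB1.tensorMod A B ≅ CohB1.tensorMod A' B' :=
  ((DCoh.tensorBi (X := Y)).mapIso a).app B ≪≫ ((DCoh.tensorBi (X := Y)).obj A').mapIso b

end sum

section twist

variable {k : Type u} [Field k] {X : Scheme.{u}} {f : X ⟶ Spec (CommRingCat.of k)} {n : ℕ}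
  {K : Type u} [Field K] [Algebra k K] {e : BrSev.Splitting f K n}

theorem twist_add' (j l : ℤ) : Nonempty (CohB1.tensorMod (e.twist j) (e.twist l) ≅ e.twist (j + l)) :=
  ⟨(PicPnLib.pullTens e.iso.hom _ _).symm ≪≫
    (Scheme.Modules.pullback e.iso.hom).mapIso (PicPnLib.twist_add n K j l).some⟩

theorem isTwPow_tensor {j l : ℤ} {r s : ℕ} {W W' : X.Modules} (hW : BrSev.IsTwPow e j r W)
    (hW' : BrSev.IsTwPow e l s W') : BrSev.IsTwPow e (j + l) (r * s) (CohB1.tensorMod W W') := by
  obtain ⟨a⟩ := hW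
  obtain ⟨b⟩ := hW'
  exact ⟨PicPnLib.pullTens (BrSev.proj f K) W W' ≪≫ tensIso a b ≪≫ (nonempty_tensor_pow _ _ r s).some ≪≫
    Sigma.mapIso fun _ => (twist_add' j l).some⟩

end twist

section endo

variable {k : Type u} [Field k] {X : Scheme.{u}} [X.Over (Spec (CommRingCat.of k))]

theorem map_smul_id_left (M N : X.Modules) (a : k) :
    ((DCoh.tensorBi (X := X)).map (a • 𝟙 M)).app N = a • 𝟙 (((DCoh.tensorBi (X := X)).obj M).obj N) := by
  refine KFlatLib.tens_hom_ext fun U m n => ?_
  have h := KFlatLib.tensorBi_map_shApp (a • 𝟙 M) (𝟙 N) U m n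
  rw [CategoryTheory.Functor.map_id, Category.comp_id] at h
  refine h.trans ?_
  rw [KLin.smul_app_apply]
  erw [KLin.smul_app_apply]
  exact DerBCLib.shTm_smul_left M N U _ m n

theorem map_smul_id_right (M N : X.Modules) (a : k) :
    ((DCoh.tensorBi (X := X)).obj M).map (a • 𝟙 N) = a • 𝟙 (((DCoh.tensorBi (X := X)).obj M).obj N) := by
  refine KFlatLib.tens_hom_ext fun U m n => ?_
  have h := KFlatLib.tensorBi_map_shApp (𝟙 M) (a • 𝟙 N) U m n
  rw [CategoryTheory.Functor.map_id, NatTrans.id_app, Category.id_comp] at h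
  refine h.trans ?_
  rw [KLin.smul_app_apply]
  erw [KLin.smul_app_apply]
  exact DerBCLib.shTm_smul_right M N U _ m n

/-- Endomorphisms of the left factor act on the tensor product. -/
def endL (M N : X.Modules) : End M →ₐ[k] End (CohB1.tensorMod M N) where
  toFun φ := ((DCoh.tensorBi (X := X)).map φ).app N
  map_one' := by
    show ((DCoh.tensorBi (X := X)).map (𝟙 M)).app N = 𝟙 _
    rw [CategoryTheory.Functor.map_id]; rfl
  map_mul' φ ψ := by
    show ((DCoh.tensorBi (X := X)).map (ψ ≫ φ)).app N = _ ≫ _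
    rw [Functor.map_comp, NatTrans.comp_app]; rfl
  map_zero' := by
    show ((DCoh.tensorBi (X := X)).map (0 : M ⟶ M)).app N = 0
    rw [Functor.map_zero]; rfl
  map_add' φ ψ := by
    show ((DCoh.tensorBi (X := X)).map (φ + ψ)).app N = _
    rw [Functor.map_add]; rfl
  commutes' a := by
    rw [Algebra.algebraMap_eq_smul_one, Algebra.algebraMap_eq_smul_one]
    exact map_smul_id_left M N a

/-- Endomorphisms of the right factor act on the tensor product. -/
def endR (M N : X.Modules) : End N →ₐ[k] End (CohB1.tensorMod M N) where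
  toFun φ := ((DCoh.tensorBi (X := X)).obj M).map φ
  map_one' := CategoryTheory.Functor.map_id _ _
  map_mul' φ ψ := ((DCoh.tensorBi (X := X)).obj M).map_comp ψ φ
  map_zero' := Functor.map_zero _ _ _
  map_add' φ ψ := Functor.map_add _
  commutes' a := by
    rw [Algebra.algebraMap_eq_smul_one, Algebra.algebraMap_eq_smul_one]
    exact map_smul_id_right M N a

/-- Pairs of endomorphisms act on the tensor product. -/
def endTens (M N : X.Modules) : End M ⊗[k] End N →ₐ[k] End (CohB1.tensorMod M N) :=
  Algebra.TensorProduct.lift (endL M N) (endR M N) fun φ ψ => by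
    show ((DCoh.tensorBi (X := X)).obj M).map ψ ≫ ((DCoh.tensorBi (X := X)).map φ).app N =
      ((DCoh.tensorBi (X := X)).map φ).app N ≫ ((DCoh.tensorBi (X := X)).obj M).map ψ
    exact ((DCoh.tensorBi (X := X)).map φ).naturality ψ

end endo

end SBTw
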