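import Groth.Agent.SBTwLib.EndBC
import Groth.Agent.KSModLib.TwistAut
import Groth.Agent.KSModLib.Isotypical
import Groth.Agent.CSALib.Descent

/-! The endomorphism algebra of an isotypical module. -/

set_option autoImplicit false
set_option linter.style.haveILetI false
set_option linter.unusedSectionVars false
universe u

noncomputable section

open CategoryTheory CategoryTheory.Limits AlgebraicGeometry
open GLinBCLib
open scoped TensorProduct
open KFlatLib (pb)
open W4c1astiltbs12 (pow)

namespace SBTw

attribute [local instance] Abelian.hasFiniteBiproducts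

section mat

variable {K : Type u} [Field K] {C : Type*} [Category C] [Preadditive C] [HasFiniteBiproducts C] [Linear K C]
  {L : C} (hb : Function.Bijective fun a : K => a • 𝟙 L)

/-- The scalar of an endomorphism of a brick. -/
def sc : (L ⟶ L) ≃ₗ[K] K :=
  (LinearEquiv.ofBijective (LinearMap.toSpanSingleton K (L ⟶ L) (𝟙 L)) hb).symm

theorem sc_spec (f : L ⟶ L) : sc hb f • 𝟙 L = f :=
  (LinearEquiv.ofBijective (LinearMap.toSpanSingleton K (L ⟶ L) (𝟙 L)) hb).apply_symm_apply f

theorem sc_comp (f g : L ⟶ L) : sc hb (f ≫ g) = sc hb f * sc hb g := by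
  apply hb.1
  show sc hb (f ≫ g) • 𝟙 L = (sc hb f * sc hb g) • 𝟙 L
  rw [sc_spec]
  conv_lhs => rw [← sc_spec hb f, ← sc_spec hb g]
  rw [Linear.smul_comp, Category.id_comp, smul_smul]

theorem sc_id : sc hb (𝟙 L) = 1 := hb.1 (by simp [sc_spec])

variable (r : ℕ)

/-- Endomorphisms of a power of a brick are matrices. -/
def matLin : (⨁ (fun _ : Fin r => L) ⟶ ⨁ (fun _ : Fin r => L)) ≃ₗ[K] Matrix (Fin r) (Fin r) K where
  toFun f := Matrix.of fun i j => sc hb (biproduct.ι (fun _ : Fin r => L) j ≫ f ≫ biproduct.π (fun _ : Fin r => L) i)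
  map_add' f g := by
    ext i j
    simp
  map_smul' a f := by
    ext i j
    simp
  invFun T := biproduct.matrix fun j i => T i j • 𝟙 L
  left_inv f := by
    refine biproduct.hom_ext' _ _ fun j => biproduct.hom_ext _ _ fun i => ?_
    simp [sc_spec, biproduct.matrix]
  right_inv T := by
    ext i j
    simp [biproduct.matrix, sc_id]

theorem matLin_apply (f : ⨁ (fun _ : Fin r => L) ⟶ ⨁ (fun _ : Fin r => L)) (i j : Fin r) :
    matLin hb r f i j = sc hb (biproduct.ι (fun _ : Fin r => L) j ≫ f ≫ biproduct.π (fun _ : Fin r => L) i) := rfl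

theorem matLin_comp (f g : ⨁ (fun _ : Fin r => L) ⟶ ⨁ (fun _ : Fin r => L)) :
    matLin hb r (g ≫ f) = matLin hb r f * matLin hb r g := by
  ext i j
  rw [Matrix.mul_apply, matLin_apply]
  calc sc hb (biproduct.ι (fun _ : Fin r => L) j ≫ (g ≫ f) ≫ biproduct.π (fun _ : Fin r => L) i)
      = sc hb (biproduct.ι (fun _ : Fin r => L) j ≫ g ≫ (∑ l, biproduct.π (fun _ : Fin r => L) l ≫
          biproduct.ι (fun _ : Fin r => L) l) ≫ f ≫ biproduct.π (fun _ : Fin r => L) i) := by
        rw [biproduct.total, Category.id_comp, Category.assoc]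
    _ = ∑ l, sc hb ((biproduct.ι (fun _ : Fin r => L) j ≫ g ≫ biproduct.π (fun _ : Fin r => L) l) ≫
          (biproduct.ι (fun _ : Fin r => L) l ≫ f ≫ biproduct.π (fun _ : Fin r => L) i)) := by
        simp only [Preadditive.sum_comp, Preadditive.comp_sum, map_sum, Category.assoc]
    _ = _ := Finset.sum_congr rfl fun l _ => by rw [sc_comp, mul_comm]; rfl

theorem matLin_id : matLin hb r (𝟙 _) = 1 := by
  ext i j
  rw [matLin_apply, Category.id_comp]
  by_cases h : i = j
  · subst h
    rw [biproduct.ι_π_self, sc_id, Matrix.one_apply_eq]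
  · rw [biproduct.ι_π_ne _ (Ne.symm h), map_zero, Matrix.one_apply_ne h]

end mat

section bc

variable {k K : Type u} [Field k] [Field K] [Algebra k K] {X Y : Scheme.{u}} (β : BC k K X Y)
  [X.Over (Spec (CommRingCat.of k))] [Y.Over (Spec (CommRingCat.of K))]
  [IsProper (X ↘ Spec (CommRingCat.of k))]
  (hX : X ↘ Spec (CommRingCat.of k) = β.iX) (hY : Y ↘ Spec (CommRingCat.of K) = β.iY)

include hX hY in
/-- The endomorphism algebra of an isotypical module becomes a matrix algebra. -/
theorem exists_endAlg {M : X.Modules} (hM : Coh.IsCoh M) {L : Y.Modules}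
    (hb : Function.Bijective fun a : K => a • 𝟙 L) {r : ℕ} (e : pb β.g M ≅ pow L r) :
    Nonempty (K ⊗[k] End M ≃ₐ[K] Matrix (Fin r) (Fin r) K) := by
  classical
  haveI : Module.Finite k (M ⟶ M) := KSMod.finite_hom hM hM
  let b := Module.finBasis k (M ⟶ M)
  obtain ⟨b', hb'⟩ := exists_basis β hX hY hM hM b
  let E := e ≪≫ (biproduct.isoCoproduct fun _ : Fin r => L).symm
  let θ := (Linear.homCongr K E E).trans (matLin hb r)
  let g : End M →ₐ[k] Matrix (Fin r) (Fin r) K :=
    { toFun := fun f => θ ((Scheme.Modules.pullback β.g).map f)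
      map_one' := by
        show θ ((Scheme.Modules.pullback β.g).map (𝟙 M)) = 1
        rw [CategoryTheory.Functor.map_id]
        simp [θ, Linear.homCongr_apply, matLin_id]
      map_mul' := fun f f' => by
        show θ ((Scheme.Modules.pullback β.g).map (f' ≫ f)) = _ * _
        rw [Functor.map_comp]
        simp only [θ, LinearEquiv.trans_apply, Linear.homCongr_apply]
        rw [← matLin_comp]
        congr 1
        simp
      map_zero' := by
        show θ ((Scheme.Modules.pullback β.g).map (0 : M ⟶ M)) = 0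
        rw [Functor.map_zero, map_zero]
      map_add' := fun f f' => by
        show θ ((Scheme.Modules.pullback β.g).map (f + f')) = _
        rw [Functor.map_add, map_add]
      commutes' := fun a => by
        show θ ((Scheme.Modules.pullback β.g).map (a • 𝟙 M)) = _
        rw [map_smul' β hX hY, map_smul, CategoryTheory.Functor.map_id]
        have h1 : θ (𝟙 _) = 1 := by simp [θ, Linear.homCongr_apply, matLin_id]
        rw [h1]; simp [Algebra.algebraMap_eq_smul_one] }
  let Φ : K ⊗[k] End M →ₐ[K] Matrix (Fin r) (Fin r) K :=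
    Algebra.TensorProduct.lift (Algebra.ofId K _) g fun c f => Algebra.commutes c (g f)
  have hΦ : Φ.toLinearMap = ((Module.Basis.baseChange K b).equiv (b'.map θ) (Equiv.refl _)).toLinearMap :=
    (Module.Basis.baseChange K b).ext fun j => by
      rw [LinearEquiv.coe_coe, Module.Basis.equiv_apply, Equiv.refl_apply, Module.Basis.map_apply, hb']
      show Φ ((Module.Basis.baseChange K b) j) = _
      rw [Module.Basis.baseChange_apply]
      simp only [Φ, Algebra.TensorProduct.lift_tmul, map_one, one_mul]
      rfl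
  refine ⟨AlgEquiv.ofBijective Φ ?_⟩
  have h := ((Module.Basis.baseChange K b).equiv (b'.map θ) (Equiv.refl _)).bijective
  rw [← LinearEquiv.coe_coe, ← hΦ] at h
  exact h

include hX hY in
/-- The endomorphism algebra of an isotypical module is central simple of dimension the multiplicity squared. -/
theorem end_csa {M : X.Modules} (hM : Coh.IsCoh M) {L : Y.Modules}
    (hb : Function.Bijective fun a : K => a • 𝟙 L) {r : ℕ} (hr : 0 < r) (e : pb β.g M ≅ pow L r) :
    Algebra.IsCentral k (End M) ∧ IsSimpleRing (End M) ∧ Module.finrank k (End M) = r * r := by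
  obtain ⟨Φ⟩ := exists_endAlg β hX hY hM hb e
  haveI : NeZero r := ⟨hr.ne'⟩
  haveI : IsSimpleRing (K ⊗[k] End M) := CSALib.simple_of_equiv Φ.symm
  haveI : Algebra.IsCentral K (K ⊗[k] End M) := CSALib.central_of_equiv Φ.symm
  refine ⟨CSALib.central_of_baseChange (k := k) (K := K), CSALib.simple_of_baseChange (k := k) (K := K), ?_⟩
  rw [← Module.finrank_baseChange (R := K), Φ.toLinearEquiv.finrank_eq, Module.finrank_matrix]
  simp

/-- Endomorphisms of an invertible module over an algebraically closed field are scalars. -/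
theorem bijective_smul_id [IsAlgClosed K] [IsIntegral Y] [IsProper (Y ↘ Spec (CommRingCat.of K))] {L : Y.Modules}
    (hL : PicF.IsInvertible L) : Function.Bijective fun a : K => a • 𝟙 L := by
  have hL0 : (𝟙 L : L ⟶ L) ≠ 0 := fun h => KSMod.not_isZero_invertible hL ((IsZero.iff_id_eq_zero L).2 h)
  refine ⟨fun a a' h => ?_, fun f => ?_⟩
  · have h' : (a - a') • 𝟙 L = 0 := by rw [sub_smul]; exact sub_eq_zero.2 h
    exact sub_eq_zero.1 ((smul_eq_zero.1 h').resolve_right hL0)
  · haveI := CurvLib.isNoetherian K (X := Y)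
    have hLc := Groth.Agent.PerfLib.isCoh_of_isFinLocFree (AmpleDevLib.isFinLocFree_of_isInvertible hL)
    haveI : Module.Finite K (End L) := KSMod.finite_hom hLc hLc
    haveI : Nontrivial (End L) := ⟨⟨𝟙 L, 0, hL0⟩⟩
    obtain ⟨a, ha⟩ := spectrum.nonempty_of_isAlgClosed_of_finiteDimensional K (show End L from f)
    refine ⟨a, sub_eq_zero.1 (by_contra fun hne => ha ?_)⟩
    haveI := KSMod.isIso_end_of_ne_zero (k := K) (Y ↘ Spec (CommRingCat.of K)) hL (a • 𝟙 L - f) hne
    rw [spectrum.mem_resolventSet_iff, Algebra.algebraMap_eq_smul_one]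
    exact (isUnit_iff_isIso _).2 ‹IsIso (a • 𝟙 L - f)›

end bc

end SBTw
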