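import Groth.Agent.SBTwLib.General

/-! Multiplicities are periodic and symmetric. -/

set_option autoImplicit false
set_option linter.style.haveILetI false
set_option linter.unusedSectionVars false
universe u

noncomputable section

open CategoryTheory CategoryTheory.Limits AlgebraicGeometry
open W4c1astiltbs12 (pow)
open KFlatLib (pb)

namespace SBTw

variable {X Y : Scheme.{u}} [PicGrp.Law X] [PicGrp.Law Y] (g : Y ⟶ X)

theorem exists_pow_rep {J : X.Modules} (hJ : PicF.IsInvertible J) (a : ℤ) :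
    ∃ (M : X.Modules) (_ : PicF.IsInvertible M), PicGrp.cls (pb g M) (AmpleDevLib.isInvertible_pb g ‹_›) =
      PicGrp.cls (pb g J) (AmpleDevLib.isInvertible_pb g hJ) ^ a := by
  obtain ⟨v, J', hv, hJ'⟩ : ∃ (v : PicLoc.PicSet X) (J' : X.Modules), v = (PicGrp.cls J hJ)⁻¹ ∧
      ∃ h : PicF.IsInvertible J', v = PicGrp.cls J' h := by
    obtain ⟨M, hM1, hM2⟩ := ((PicGrp.cls J hJ)⁻¹).2
    exact ⟨(PicGrp.cls J hJ)⁻¹, M, rfl, hM2, Subtype.ext hM1.symm⟩
  obtain ⟨hJ', hJ''⟩ := hJ'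
  have h1 : PicGrp.cls J hJ * PicGrp.cls J' hJ' = 1 := by rw [← hJ'', hv, mul_inv_cancel]
  obtain ⟨u⟩ := (PicGrp.cls_mul_cls_eq_one_iff hJ hJ').1 h1
  have hstep : ∀ {A B : X.Modules} (hA : PicF.IsInvertible A) (hB : PicF.IsInvertible B),
      PicGrp.cls (pb g (CohB1.tensorMod A B)) (AmpleDevLib.isInvertible_pb g (HilbPolyLib.isInvertible_tensor hA hB)) =
      PicGrp.cls (pb g A) (AmpleDevLib.isInvertible_pb g hA) * PicGrp.cls (pb g B) (AmpleDevLib.isInvertible_pb g hB) :=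
    fun {A B} hA hB => Subtype.ext (by
      rw [PicGrp.cls_mul_cls_val, PicGrp.cls_val, PicGrp.cl_eq_cl_iff]
      exact ⟨PicPnLib.pullTens g A B⟩)
  have hinv : PicGrp.cls (pb g J') (AmpleDevLib.isInvertible_pb g hJ') =
      (PicGrp.cls (pb g J) (AmpleDevLib.isInvertible_pb g hJ))⁻¹ :=
    (PicGrp.cls_inv_eq_cls _ _ ⟨(PicPnLib.pullTens g J J').symm ≪≫ (Scheme.Modules.pullback g).mapIso u ≪≫
      KFlatLib.pullUnitIso g⟩).symm
  induction a using Int.induction_on with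
  | zero =>
    refine ⟨Coh.structureModule X, CurvLib.isInvertible_structureModule, ?_⟩
    rw [zpow_zero]
    exact (PicGrp.cls_eq_one_iff _).2 ⟨KFlatLib.pullUnitIso g⟩
  | succ i ih =>
    obtain ⟨M, hM, h⟩ := ih
    refine ⟨CohB1.tensorMod M J, HilbPolyLib.isInvertible_tensor hM hJ, ?_⟩
    rw [hstep hM hJ, h, zpow_add_one]
  | pred i ih =>
    obtain ⟨M, hM, h⟩ := ih
    refine ⟨CohB1.tensorMod M J', HilbPolyLib.isInvertible_tensor hM hJ', ?_⟩
    rw [hstep hM hJ', h, hinv, zpow_sub_one]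

theorem nonempty_tensor_of_cls {N M N' : Y.Modules} (hN : PicF.IsInvertible N) (hM : PicF.IsInvertible M)
    (hN' : PicF.IsInvertible N') (h : PicGrp.cls N hN * PicGrp.cls M hM = PicGrp.cls N' hN') :
    Nonempty (CohB1.tensorMod N M ≅ N') := by
  rw [← PicGrp.cl_eq_cl_iff, ← PicGrp.cls_mul_cls_val hN hM, h]
  rfl

end SBTw
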