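import Groth.Agent.SBTwLib.Mult
import Groth.Agent.CurvLib.StalkSum
import Groth.Agent.CurveVBLib.Basic
import Groth.Agent.VBResLib.KFunct
import Groth.Prelude.Def_PicGrp

/-! Isotypical bundles on a proper scheme with only constant functions. -/

set_option autoImplicit false
set_option linter.style.haveILetI false
set_option linter.unusedSectionVars false
universe u

noncomputable section

open CategoryTheory CategoryTheory.Limits AlgebraicGeometry
open GLinBCLib
open scoped TensorProduct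
open W4c1astiltbs12 (pow)
open KFlatLib (pb)
open DevissLib (St)

namespace SBTw

attribute [local instance] Abelian.hasFiniteBiproducts

/-- A module with only scalar endomorphisms is indecomposable. -/
theorem indec_of_scalar {K : Type u} [Field K] {C : Type*} [Category C] [Abelian C] [Linear K C] {L : C}
    (hb : Function.Bijective fun a : K => a • 𝟙 L) : KSMod.Indec L := by
  refine ⟨fun h => one_ne_zero (α := K) (hb.1 (h.eq_of_src _ _)), fun A B ⟨f⟩ => ?_⟩
  obtain ⟨c, hc⟩ := hb.2 (f.hom ≫ biprod.fst ≫ biprod.inl ≫ f.inv)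
  replace hc : c • 𝟙 L = f.hom ≫ biprod.fst ≫ biprod.inl ≫ f.inv := hc
  have hq : c • c • 𝟙 L = c • 𝟙 L := by
    rw [show c • c • 𝟙 L = (c • 𝟙 L) ≫ (c • 𝟙 L) by simp [Linear.smul_comp], hc]
    simp
  have h2 : c * c = c := hb.1 (by simpa [smul_smul] using hq)
  rcases mul_right_eq_self₀.1 h2 with h | h
  · right
    refine (IsZero.iff_id_eq_zero B).2 ?_
    have hq' : f.hom ≫ biprod.fst ≫ biprod.inl ≫ f.inv = 𝟙 L := by rw [← hc, h]; exact one_smul K _
    calc 𝟙 B = biprod.inr ≫ f.inv ≫ 𝟙 L ≫ f.hom ≫ biprod.snd := by simp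
      _ = 0 := by rw [← hq']; simp
  · left
    refine (IsZero.iff_id_eq_zero A).2 ?_
    have hq' : f.hom ≫ biprod.fst ≫ biprod.inl ≫ f.inv = 0 := by rw [← hc, h]; exact zero_smul K _
    calc 𝟙 A = biprod.inl ≫ f.inv ≫ (f.hom ≫ biprod.fst ≫ biprod.inl ≫ f.inv) ≫ f.hom ≫ biprod.fst := by simp
      _ = 0 := by rw [hq']; simp

theorem pow_index_unique {Y : Scheme.{u}} [Nonempty Y] {L : Y.Modules} (hL : PicF.IsInvertible L) {a b : ℕ}
    (e : pow L a ≅ pow L b) : a = b := by
  obtain ⟨y⟩ : Nonempty Y := inferInstance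
  obtain ⟨U, hU, ⟨u⟩⟩ := hL y
  haveI : Nonempty (Fin 1) := ⟨0⟩
  obtain ⟨t⟩ := CurveVBLib.nonempty_stalk_pi_on
    (u ≪≫ (coproductUniqueIso fun _ : Fin 1 => Coh.structureModule (U : Scheme.{u})).symm) hU
  have key : ∀ c : ℕ, Module.finrank (Y.presheaf.stalk y) ((St y).obj (⨁ fun _ : Fin c => L)) = c := fun c => by
    let θ := ((St y).mapBiproduct (fun _ : Fin c => L) ≪≫ ModuleCat.biproductIsoPi _).toLinearEquiv
    rw [(θ.trans (LinearEquiv.piCongrRight fun _ : Fin c => t)).finrank_eq, Module.finrank_pi_fintype]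
    simp [Module.finrank_fin_fun]
  rw [← key a, ← key b]
  exact ((St y).mapIso (biproduct.isoCoproduct _ ≪≫ e ≪≫ (biproduct.isoCoproduct _).symm)).toLinearEquiv.finrank_eq

variable {k : Type u} [Field k] {X : Scheme.{u}} (p : X ⟶ Spec (CommRingCat.of k)) [IsProper p]
  (K : Type u) [Field K] [Algebra k K]
  [X.Over (Spec (CommRingCat.of k))] [(W4bk4gw11416.baseChange p K).Over (Spec (CommRingCat.of K))]
  (hX : X ↘ Spec (CommRingCat.of k) = p)
  (hY : (W4bk4gw11416.baseChange p K) ↘ Spec (CommRingCat.of K) = (KSMod.bcSq p K).iY)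

include hX in
theorem finrank_end_structure (hO : IsIso p.appTop) :
    Module.finrank k (Coh.structureModule X ⟶ Coh.structureModule X) ≤ 1 := by
  refine finrank_le_one (𝟙 (Coh.structureModule X)) fun φ => ?_
  obtain ⟨c, hc⟩ := AVThetaLib.exists_eq_smulHom (CurvLib.isInvertible_structureModule (X := X)) φ
  haveI := hO
  refine ⟨(inv p.appTop ≫ (Scheme.ΓSpecIso (CommRingCat.of k)).hom) c, ?_⟩
  rw [hc]
  refine Scheme.Modules.hom_ext _ _ fun U => ConcreteCategory.hom_ext _ _ fun m => ?_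
  rw [StabLib.smulHom_app, KLin.smul_app_apply]
  show _ • m = _ • m
  congr 1
  show X.presheaf.map (homOfLE (le_top : U ≤ ⊤)).op ((X ↘ Spec (CommRingCat.of k)).appTop _) = _
  rw [hX]
  congr 1
  show ((inv p.appTop ≫ (Scheme.ΓSpecIso (CommRingCat.of k)).hom) ≫ (Scheme.ΓSpecIso (CommRingCat.of k)).inv ≫ p.appTop) c = c
  simp

include hX hY in
/-- Invertible modules on the extension have only scalar endomorphisms. -/
theorem bijective_scalar (hO : IsIso p.appTop) [Nonempty ↥(W4bk4gw11416.baseChange p K)]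
    {N : (W4bk4gw11416.baseChange p K).Modules} (hN : PicF.IsInvertible N) :
    Function.Bijective fun a : K => a • 𝟙 N := by
  haveI : IsProper (X ↘ Spec (CommRingCat.of k)) := hX ▸ ‹IsProper p›
  haveI := CurvLib.isNoetherian k (X := X)
  let Y := W4bk4gw11416.baseChange p K
  have hne : (𝟙 N : N ⟶ N) ≠ 0 := fun h => KSMod.not_isZero_invertible hN ((IsZero.iff_id_eq_zero N).2 h)
  refine ⟨fun a a' h => ?_, fun φ => ?_⟩
  · have h' : (a - a') • 𝟙 N = 0 := by rw [sub_smul]; exact sub_eq_zero.2 h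
    exact sub_eq_zero.1 ((smul_eq_zero.1 h').resolve_right hne)
  · obtain ⟨c, hc⟩ := AVThetaLib.exists_eq_smulHom hN φ
    let O := Coh.structureModule X
    let O' := Coh.structureModule Y
    have hOc : Coh.IsCoh O := Groth.Agent.PerfLib.isCoh_of_isFinLocFree
      (AmpleDevLib.isFinLocFree_of_isInvertible CurvLib.isInvertible_structureModule)
    haveI := KSMod.finite_hom (k := k) hOc hOc
    obtain ⟨b', -⟩ := exists_basis (KSMod.bcSq p K) hX hY hOc hOc (Module.finBasis k (O ⟶ O))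
    let u : pb (KSMod.bcSq p K).g O ≅ O' := KFlatLib.pullUnitIso _
    have hle : Module.finrank K (O' ⟶ O') ≤ 1 := by
      rw [← (Linear.homCongr K u u).finrank_eq, Module.finrank_eq_card_basis b', Fintype.card_fin]
      exact finrank_end_structure p hX hO
    have hone : (𝟙 O' : O' ⟶ O') ≠ 0 := fun h =>
      KSMod.not_isZero_invertible (CurvLib.isInvertible_structureModule (X := Y)) ((IsZero.iff_id_eq_zero O').2 h)
    haveI : Module.Finite K (O' ⟶ O') := Module.Finite.of_basis (b'.map (Linear.homCongr K u u))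
    obtain ⟨a, ha⟩ := (finrank_eq_one_iff_of_nonzero' (𝟙 O') hone).1
      (le_antisymm hle (Module.finrank_pos_iff_exists_ne_zero.2 ⟨𝟙 O', hone⟩)) (StabLib.smulHom O' c)
    refine ⟨a, ?_⟩
    show a • 𝟙 N = φ
    rw [hc]
    have h1 := congrArg (fun t : O' ⟶ O' => t.app ⊤ (show Γ(O', ⊤) from (1 : Γ(Y, ⊤)))) ha
    refine Scheme.Modules.hom_ext _ _ fun U => ConcreteCategory.hom_ext _ _ fun m => ?_
    rw [KLin.smul_app_apply, StabLib.smulHom_app]
    show _ • m = _ • m
    congr 1
    simp only [KLin.smul_app_apply, StabLib.smulHom_app] at h1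
    have h0 : ∀ x : Γ(Y, ⊤), x • (show Γ(O', ⊤) from (1 : Γ(Y, ⊤))) = x := fun x => mul_one x
    have hid : Y.presheaf.map (homOfLE (le_top : (⊤ : Y.Opens) ≤ ⊤)).op = 𝟙 _ := Y.presheaf.map_id _
    simp only [hid] at h1
    have h1' := (h0 _).symm.trans (h1.trans (h0 _))
    exact congrArg (fun t : Γ(Y, ⊤) => Y.presheaf.map (homOfLE (le_top : U ≤ ⊤)).op t) h1'

section cls

variable (hO : IsIso p.appTop) [Nonempty ↥(W4bk4gw11416.baseChange p K)]

include hX hY hO in
theorem csa_isotypical {W : X.Modules} (hW : Coh.IsCoh W) {N : (W4bk4gw11416.baseChange p K).Modules}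
    (hN : PicF.IsInvertible N) {r : ℕ} (hr : 0 < r) (e : pb (KSMod.bcSq p K).g W ≅ pow N r) :
    Algebra.IsCentral k (End W) ∧ IsSimpleRing (End W) ∧ Module.finrank k (End W) = r * r ∧
      FiniteDimensional k (End W) := by
  haveI : IsProper (X ↘ Spec (CommRingCat.of k)) := hX ▸ ‹IsProper p›
  haveI := CurvLib.isNoetherian k (X := X)
  obtain ⟨h1, h2, h3⟩ := end_csa (KSMod.bcSq p K) hX hY hW (bijective_scalar p K hX hY hO hN) hr e
  exact ⟨h1, h2, h3, KSMod.finite_hom hW hW⟩

include hX hY hO in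
/-- Opposite types have inverse classes. -/
theorem cls_mul_eq_one {W W' : X.Modules} (hW : Coh.IsCoh W) (hW' : Coh.IsCoh W')
    {N N' : (W4bk4gw11416.baseChange p K).Modules}
    (hN : PicF.IsInvertible N) (hN' : PicF.IsInvertible N')
    (u : CohB1.tensorMod N N' ≅ Coh.structureModule (W4bk4gw11416.baseChange p K)) {r s : ℕ} (hr : 0 < r) (hs : 0 < s)
    (e : pb (KSMod.bcSq p K).g W ≅ pow N r) (e' : pb (KSMod.bcSq p K).g W' ≅ pow N' s) :
    cls k W * cls k W' = 1 := by
  haveI : IsProper (X ↘ Spec (CommRingCat.of k)) := hX ▸ ‹IsProper p›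
  haveI := CurvLib.isNoetherian k (X := X)
  haveI := hW.1
  haveI := hW'.1
  let O := Coh.structureModule X
  let O' := Coh.structureModule (W4bk4gw11416.baseChange p K)
  let T := CohB1.tensorMod W W'
  have hT : Coh.IsCoh T := ⟨(Groth.Agent.S2297.result W W').1, (Groth.Agent.S2297.result W W').2 hW.2 hW'.2⟩
  have hO'inv : PicF.IsInvertible O' := CurvLib.isInvertible_structureModule
  let eT : pb (KSMod.bcSq p K).g T ≅ pow O' (r * s) :=
    PicPnLib.pullTens _ W W' ≪≫ tensIso e e' ≪≫ (nonempty_tensor_pow _ _ r s).some ≪≫ Sigma.mapIso fun _ => u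
  obtain ⟨a1, a2, a3, a4⟩ := csa_isotypical p K hX hY hO hW hN hr e
  obtain ⟨b1, b2, b3, b4⟩ := csa_isotypical p K hX hY hO hW' hN' hs e'
  obtain ⟨c1, c2, c3, c4⟩ := csa_isotypical p K hX hY hO hT hO'inv (Nat.mul_pos hr hs) eT
  haveI : IsSimpleRing (End W ⊗[k] End W') := inferInstance
  have hbij : Function.Bijective (endTens W W' (k := k)) := by
    have hinj : Function.Injective (endTens W W' (k := k)) := CSALib.injective_algHom _
    refine ⟨hinj, (LinearMap.injective_iff_surjective_of_finrank_eq_finrank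
      (f := (endTens W W' (k := k)).toLinearMap) ?_).1 hinj⟩
    rw [Module.finrank_tensorProduct, a3, b3, c3]
    ring
  -- the tensor product is a power of the structure sheaf
  have hOc : Coh.IsCoh O := Groth.Agent.PerfLib.isCoh_of_isFinLocFree
    (AmpleDevLib.isFinLocFree_of_isInvertible CurvLib.isInvertible_structureModule)
  have hc : Coh.IsCoh (∐ fun _ : Fin (r * s) => O) :=
    QCohLib.isCoh_of_iso (biproduct.isoCoproduct _) (CurveSDLib.isCoh_biproduct fun _ => hOc)
  let P := Scheme.Modules.pullback (KSMod.bcSq p K).g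
  obtain ⟨a⟩ := KSMod.noetherDeuring' p K hT hc (eT ≪≫ (Sigma.mapIso fun _ : Fin (r * s) => (KFlatLib.pullUnitIso _).symm) ≪≫
    (PreservesCoproduct.iso P fun _ : Fin (r * s) => O).symm)
  let Φ : T ≅ ⨁ fun _ : Fin (r * s) => O := a ≪≫ (biproduct.isoCoproduct _).symm
  haveI : Nonempty (Fin 1) := ⟨0⟩
  obtain ⟨g1, g2, g3, g4⟩ := csa_isotypical p K hX hY hO hOc hO'inv one_pos
    (KFlatLib.pullUnitIso _ ≪≫ (coproductUniqueIso fun _ : Fin 1 => O').symm)
  have hb : Function.Bijective fun a : k => a • 𝟙 O := by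
    have hinj : Function.Injective (Algebra.linearMap k (End O)) := (algebraMap k (End O)).injective
    have hsurj : Function.Surjective (Algebra.linearMap k (End O)) :=
      (LinearMap.injective_iff_surjective_of_finrank_eq_finrank (f := Algebra.linearMap k (End O)) (by rw [g3]; simp)).1 hinj
    refine (show (Algebra.linearMap k (End O) : k → End O) = fun a : k => a • 𝟙 O from
      funext fun a => Algebra.algebraMap_eq_smul_one a) ▸ ⟨hinj, hsurj⟩
  let θ := (Linear.homCongr k Φ Φ).trans (matLin hb (r * s))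
  let ψ : End T ≃ₐ[k] Matrix (Fin (r * s)) (Fin (r * s)) k := AlgEquiv.ofLinearEquiv θ
    (by show θ (𝟙 T) = 1; simp [θ, Linear.homCongr_apply, matLin_id])
    (fun a b => by
      show θ (b ≫ a) = θ a * θ b
      simp only [θ, LinearEquiv.trans_apply, Linear.homCongr_apply]
      rw [← matLin_comp]
      congr 1
      simp)
  rw [cls_eq, cls_eq, CSALib.cl_tensor, CSALib.cl_congr (AlgEquiv.ofBijective _ hbij), CSALib.one_def]
  exact CSALib.cl_matrix (Nat.mul_pos hr hs).ne' ψ

include hX hY hO in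
/-- The multiplicity of an indecomposable isotypical module is the index of its class. -/
theorem ind_cls_indec {W : X.Modules} (hW : Coh.IsCoh W) (hWi : KSMod.Indec W)
    {N : (W4bk4gw11416.baseChange p K).Modules} (hN : PicF.IsInvertible N) {r : ℕ} (hr : 0 < r)
    (e : pb (KSMod.bcSq p K).g W ≅ pow N r) : CSALib.ind (cls k W) = r := by
  haveI : IsProper (X ↘ Spec (CommRingCat.of k)) := hX ▸ ‹IsProper p›
  obtain ⟨h1, h2, h3, h4⟩ := csa_isotypical p K hX hY hO hW hN hr e
  haveI : IsArtinianRing (End W) := IsArtinianRing.of_finite k _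
  have hJ : Ring.jacobson (End W) = ⊥ := (Submodule.eq_bot_iff _).2 fun a ha => by_contra fun ha0 => by
    rcases IsSimpleRing.simple.eq_bot_or_eq_top (Ideal.toTwoSided (Ring.jacobson (End W))) with h | h
    · refine ha0 ?_
      have h1 : a ∈ Ideal.toTwoSided (Ring.jacobson (End W)) := Ideal.mem_toTwoSided.2 ha
      rw [h] at h1
      exact h1
    · refine (Ring.jacobson_lt_top (End W)).ne ((Ideal.eq_top_iff_one _).2 (Ideal.mem_toTwoSided.1 ?_))
      rw [h]
      trivial
  classical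
  letI : DivisionRing (End W) := DivisionRing.ofIsUnitOrEqZero fun a => by
    by_contra h
    obtain ⟨hu, ha⟩ := not_or.1 h
    exact ha ((Submodule.eq_bot_iff _).1 hJ a (KSMod.nonunit_mem_jacobson (k := k) (KSMod.idem_end hWi) hu))
  rw [cls_eq]
  exact (CSALib.ind_cl_eq (CSALib.oneMat (End W)) (h3.trans (sq r).symm)).1

include hX hY hO in
/-- The multiplicity divides that of any twist of the same type. -/
theorem dvd_of_twist {W W' : X.Modules} (hW : FlatMod.IsFinLocFree W) (hW' : FlatMod.IsFinLocFree W')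
    (hW'i : KSMod.Indec W') {N N' : (W4bk4gw11416.baseChange p K).Modules} (hN' : PicF.IsInvertible N')
    {J : X.Modules} (hJ : PicF.IsInvertible J)
    (u : CohB1.tensorMod N (pb (KSMod.bcSq p K).g J) ≅ N') {r s : ℕ} (hr : 0 < r)
    (e : pb (KSMod.bcSq p K).g W ≅ pow N r) (e' : pb (KSMod.bcSq p K).g W' ≅ pow N' s) : s ∣ r := by
  haveI : IsProper (X ↘ Spec (CommRingCat.of k)) := hX ▸ ‹IsProper p›
  haveI := CurvLib.isNoetherian k (X := X)
  haveI := (Groth.Agent.PerfLib.isCoh_of_isFinLocFree hW).1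
  let P := Scheme.Modules.pullback (KSMod.bcSq p K).g
  let U := CohB1.tensorMod W J
  let Jp := pb (KSMod.bcSq p K).g J
  let w : Jp ≅ pow Jp 1 :=
    { hom := Sigma.ι (fun _ : Fin 1 => Jp) 0
      inv := Sigma.desc fun _ => 𝟙 Jp
      hom_inv_id := Sigma.ι_desc _ _
      inv_hom_id := Sigma.hom_ext _ _ fun i => by fin_cases i; simp }
  let eU : W4c1astiltbs12.bcMod p K U ≅ pow N' r :=
    PicPnLib.pullTens _ W J ≪≫ tensIso e w ≪≫ (nonempty_tensor_pow _ _ r 1).some ≪≫ eqToIso (by rw [mul_one]) ≪≫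
      Sigma.mapIso fun _ => u
  have hI := indec_of_scalar (bijective_scalar p K hX hY hO hN')
  have hU0 : ¬ IsZero U := fun h => by
    have hz : IsZero (pow N' r) := (P.map_isZero h).of_iso eU.symm
    refine hI.1 ((IsZero.iff_id_eq_zero N').2 ?_)
    have h1 := hz.eq_of_src (Sigma.desc fun _ : Fin r => 𝟙 N') 0
    have h2 := congrArg (fun z => Sigma.ι (fun _ : Fin r => N') ⟨0, hr⟩ ≫ z) h1
    simpa using h2
  have hUf : FlatMod.IsFinLocFree U := VBResLib.vb_tensor J hW (AmpleDevLib.isFinLocFree_of_isInvertible hJ)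
  obtain ⟨⟨G, n, hG, hGi, ⟨g⟩⟩, -⟩ := KSMod.isotypical_pow p K hUf hU0 hI eU
  letI : (W4bk4gw11416.baseChange p K).Over (Spec (CommRingCat.of K)) := ⟨(KSMod.bcSq p K).iY⟩
  haveI : IsProper ((W4bk4gw11416.baseChange p K) ↘ Spec (CommRingCat.of K)) :=
    inferInstanceAs (IsProper (pullback.snd p (Spec.map (CommRingCat.ofHom (algebraMap k K)))))
  haveI : PreservesBinaryBiproducts P := preservesBinaryBiproducts_of_preservesBinaryCoproducts P
  rcases n with _ | n
  · exact absurd ((KSMod.isZero_pow_zero G).of_iso g) hU0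
  let q := g ≪≫ (biproduct.isoCoproduct _).symm ≪≫ KSMod.splitOff (fun _ : Fin (n + 1) => G) 0
  obtain ⟨a, ⟨ha⟩⟩ := KSMod.summand_pow (k := K)
    (ConsLib.isCoh_pullback (KSMod.bcSq p K).g (Groth.Agent.PerfLib.isCoh_of_isFinLocFree hUf))
    hI (P.mapIso q ≪≫ P.mapBiprod _ _) eU
  obtain ⟨i⟩ := KSMod.isotypical_unique p K (Groth.Agent.PerfLib.isCoh_of_isFinLocFree hG)
    (Groth.Agent.PerfLib.isCoh_of_isFinLocFree hW') hGi hW'i ha e'
  have e2 : pow N' r ≅ pow N' ((n + 1) * s) :=
    eU.symm ≪≫ P.mapIso g ≪≫ PreservesCoproduct.iso P _ ≪≫ (Sigma.mapIso fun _ => P.mapIso i ≪≫ e') ≪≫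
      (KSMod.nonempty_pow_pow N' s (n + 1)).some
  exact Dvd.intro_left _ (pow_index_unique hN' e2).symm

end cls

end SBTw
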